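import Cfsg.Agent.Spor.LyUD.D0

set_option autoImplicit false
set_option maxRecDepth 100000000
set_option Elab.async false

namespace Cfsg.Agent.Spor.LyUD

theorem ok0 : Net.okb 14 n0 = true := by decide +kernel

theorem ok1 : Net.okb 14 n1 = true := by decide +kernel

theorem ok2 : Net.okb 14 n2 = true := by decide +kernel

theorem ok3 : Net.okb 14 n3 = true := by decide +kernel

theorem ok4 : Net.okb 14 n4 = true := by decide +kernel

theorem ok5 : Net.okb 14 n5 = true := by decide +kernel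

theorem ok6 : Net.okb 14 n6 = true := by decide +kernel

theorem rel0 : T.rel 14 [1, 1] 0 14 = true := by decide +kernel

theorem rel1 : T.rel 14 [2, 2] 0 14 = true := by decide +kernel

theorem rel2 : T.rel 14 [3, 3] 0 14 = true := by decide +kernel

theorem rel3 : T.rel 14 [4, 4] 0 14 = true := by decide +kernel

theorem rel4 : T.rel 14 [5, 5] 0 14 = true := by decide +kernel

theorem rel5 : T.rel 14 [6, 6, 6] 0 14 = true := by decide +kernel

theorem rel6 : T.rel 14 [2, 6, 2, 6] 0 14 = true := by decide +kernel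

theorem rel7 : T.rel 14 [3, 6, 3, 6, 3, 6] 0 14 = true := by decide +kernel

theorem rel8 : T.rel 14 [1, 2, 3, 6, 1, 6, 3, 2] 0 14 = true := by decide +kernel

theorem rel9 : T.rel 14 [2, 3, 2, 3, 2, 3, 6, 3, 2, 3, 2, 3, 2, 3, 6, 3] 0 14 = true := by decide +kernel

theorem rel10 : T.rel 14 [1, 2, 8, 4, 6, 1, 4, 2] 0 14 = true := by decide +kernel

theorem rel11 : T.rel 14 [1, 2, 1, 2] 0 14 = true := by decide +kernel

theorem rel12 : T.rel 14 [3, 4, 2, 3, 2, 3, 2, 3, 2, 4] 0 14 = true := by decide +kernel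

theorem rel13 : T.rel 14 [4, 1, 2, 3, 6, 3, 2, 4, 8, 3, 2, 3, 2, 3, 6] 0 14 = true := by decide +kernel

theorem rel14 : T.rel 14 [4, 1, 4, 6, 4, 8, 1] 0 14 = true := by decide +kernel

theorem rel15 : T.rel 14 [4, 1, 2, 4, 1, 2, 4, 2, 1, 4, 6, 2] 0 14 = true := by decide +kernel

theorem rel16 : T.rel 14 [2, 8, 5, 2, 5] 0 14 = true := by decide +kernel

theorem rel17 : T.rel 14 [3, 5, 3, 5] 0 14 = true := by decide +kernel

theorem rel18 : T.rel 14 [6, 5, 6, 5] 0 14 = true := by decide +kernel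

theorem rel19 : T.rel 14 [5, 1, 5, 1, 5, 1] 0 14 = true := by decide +kernel

theorem rel20 : T.rel 14 [5, 4, 5, 4, 5, 4, 5, 4, 5, 4] 0 14 = true := by decide +kernel

theorem rel21 : T.rel 14 [5, 1, 4, 1, 5, 1, 4, 1, 5, 1, 4, 1, 5, 1, 4, 1, 5, 1, 4, 1] 0 14 = true := by decide +kernel

theorem rel22 : T.rel 14 [7] 0 14 = true := by decide +kernel

end Cfsg.Agent.Spor.LyUD
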